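import Mathlib

set_option autoImplicit false
set_option linter.unusedSectionVars false

namespace Groth.Agent.H71.Compl

universe u v w t

open LinearMap AdicCompletion

variable {R : Type u} [CommRing R] (I : Ideal R)
variable {M : Type v} [AddCommGroup M] [Module R M]
variable {N : Type w} [AddCommGroup N] [Module R N]
variable {P : Type t} [AddCommGroup P] [Module R P]

/-- adic completion preserves injectivity under an Artin–Rees type hypothesis -/
theorem map_injective_of_AR {f : M →ₗ[R] N} (k : ℕ)
    (hk : ∀ (n : ℕ) (y : M), f y ∈ (I ^ (n + k) • ⊤ : Submodule R N) →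
      y ∈ (I ^ n • ⊤ : Submodule R M)) :
    Function.Injective (AdicCompletion.map I f) := by
  rw [← LinearMap.ker_eq_bot, LinearMap.ker_eq_bot']
  intro x
  apply AdicCompletion.induction_on I M x (fun a ↦ ?_)
  intro hx
  refine AdicCompletion.mk_zero_of _ _ _ ⟨42, fun n _ ↦ ⟨n + k, by lia, n, by lia, ?_⟩⟩
  apply hk
  simpa using congrArg (fun x ↦ x.val (n + k)) hx

/-- adic completion preserves exactness under an Artin–Rees type hypothesis -/
theorem map_exact_of_AR {f : M →ₗ[R] N} {g : N →ₗ[R] P} (hfg : Function.Exact f g)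
    (hg : Function.Surjective g) (k : ℕ)
    (hk : ∀ (n : ℕ) (y : M), f y ∈ (I ^ (n + k) • ⊤ : Submodule R N) →
      y ∈ (I ^ n • ⊤ : Submodule R M)) :
    Function.Exact (AdicCompletion.map I f) (AdicCompletion.map I g) := by
  refine LinearMap.exact_of_comp_eq_zero_of_ker_le_range ?_ (fun y ↦ ?_)
  · rw [AdicCompletion.map_comp, hfg.linearMap_comp_eq_zero, AdicCompletion.map_zero]
  · apply AdicCompletion.induction_on I N y (fun b ↦ ?_)
    intro hz
    have hb (n : ℕ) : g (b n) ∈ (I ^ n • ⊤ : Submodule R P) := by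
      simpa using congrArg (fun x ↦ x.val n) hz
    have h2 (n : ℕ) : ∃ (d : N) (z : M), d ∈ (I ^ n • ⊤ : Submodule R N) ∧ f z = b n - d := by
      have h1 : g (b n) ∈ Submodule.map g (I ^ n • ⊤ : Submodule R N) := by
        rw [Submodule.map_smul'', Submodule.map_top, range_eq_top.mpr hg]
        exact hb n
      obtain ⟨d, hdmem, hd⟩ := h1
      obtain ⟨z, hz⟩ := (hfg (b n - d)).mp (by simp [hd])
      exact ⟨d, z, hdmem, hz⟩
    choose d z hd hz' using h2
    have hw : ∀ n, z (n + k) ≡ z (n + 1 + k) [SMOD (I ^ n • ⊤ : Submodule R M)] := by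
      intro n
      rw [SModEq.sub_mem]
      apply hk
      rw [map_sub, hz', hz']
      have e : b (n + k) - d (n + k) - (b (n + 1 + k) - d (n + 1 + k)) =
          (b (n + k) - b (n + 1 + k)) - d (n + k) + d (n + 1 + k) := by abel
      rw [e]
      refine Submodule.add_mem _ (Submodule.sub_mem _ ?_ (hd _)) ?_
      · rw [← SModEq.sub_mem]
        exact (AdicCauchySequence.mk_eq_mk (show n + k ≤ n + 1 + k by lia) b).symm
      · exact (Submodule.smul_mono_left (Ideal.pow_le_pow_right (by lia))) (hd _)
    refine ⟨AdicCompletion.mk I M (AdicCauchySequence.mk I M (fun n ↦ z (n + k)) hw), ?_⟩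
    ext n
    suffices h : Submodule.Quotient.mk (p := (I ^ n • ⊤ : Submodule R N)) (f (z (n + k))) =
          Submodule.Quotient.mk (p := (I ^ n • ⊤ : Submodule R N)) (b (n + k)) by
      simp [AdicCauchySequence.mk, h, AdicCauchySequence.mk_eq_mk (show n ≤ n + k by lia)]
    rw [Submodule.Quotient.eq, hz', sub_sub_cancel_left, Submodule.neg_mem_iff]
    exact (Submodule.smul_mono_left (Ideal.pow_le_pow_right (by lia))) (hd _)

end Groth.Agent.H71.Compl
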