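import Groth.Agent.H71.Compl.Succ

set_option autoImplicit false
set_option linter.unusedSectionVars false

namespace Groth.Agent.H71.Compl

universe u

open LinearMap AdicCompletion RingTheory.Sequence

variable {A : Type u} [CommRing A] (a : A)

lemma ker_map_mkQ_bot :
    LinearMap.ker (AdicCompletion.map (Ideal.span {a}) (⊥ : Ideal A).mkQ) =
      (⊥ : Ideal A).map (algebraMap A (AdicCompletion (Ideal.span {a}) A)) := by
  rw [Ideal.map_bot]
  refine LinearMap.ker_eq_bot.2 (map_injective_of_AR (Ideal.span {a}) 0 (fun n y hy => ?_))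
  rw [mem_span_pow_smul_top_iff] at hy ⊢
  obtain ⟨z, hz⟩ := hy
  obtain ⟨z, rfl⟩ := Submodule.mkQ_surjective _ z
  rw [← map_smul, Submodule.mkQ_apply, Submodule.mkQ_apply, Submodule.Quotient.eq,
    Submodule.mem_bot, sub_eq_zero, add_zero] at hz
  exact ⟨z, hz⟩

lemma ofList_take_succ (rs : List A) (i : ℕ) (h : i < rs.length) :
    Ideal.ofList (rs.take (i + 1)) = Ideal.ofList (rs.take i) ⊔ Ideal.span {rs[i]} := by
  rw [List.take_succ_eq_append_getElem h, Ideal.ofList_append, Ideal.ofList_singleton]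

lemma regular_quot (rs : List A) (hreg : IsWeaklyRegular A rs) (i : ℕ) (h : i < rs.length) :
    IsSMulRegular (A ⧸ Ideal.ofList (rs.take i)) rs[i] := by
  have h1 := hreg.regular_mod_prev i h
  have e : (Ideal.ofList (rs.take i) • ⊤ : Submodule A A) = Ideal.ofList (rs.take i) := by
    rw [smul_eq_mul, Ideal.mul_top]
  rwa [e] at h1

theorem ker_and_regular (rs : List A) (hreg : IsWeaklyRegular A rs)
    (hbd : ∀ i ≤ rs.length, ∃ N : ℕ, ∀ x : A ⧸ Ideal.ofList (rs.take i),
      (∃ m : ℕ, a ^ m • x = 0) → a ^ N • x = 0) :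
    ∀ i (hi : i ≤ rs.length),
      LinearMap.ker (AdicCompletion.map (Ideal.span {a}) (Ideal.ofList (rs.take i)).mkQ) =
        (Ideal.ofList (rs.take i)).map (algebraMap A (AdicCompletion (Ideal.span {a}) A)) ∧
      ∀ h : i < rs.length,
        IsSMulRegular (AdicCompletion (Ideal.span {a}) (A ⧸ Ideal.ofList (rs.take i))) rs[i] := by
  intro i
  induction i with
  | zero =>
    intro hi
    have h0 : LinearMap.ker (AdicCompletion.map (Ideal.span {a}) (Ideal.ofList (rs.take 0)).mkQ) =
        (Ideal.ofList (rs.take 0)).map (algebraMap A (AdicCompletion (Ideal.span {a}) A)) := by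
      rw [List.take_zero, Ideal.ofList_nil]
      exact ker_map_mkQ_bot a
    refine ⟨h0, fun h => ?_⟩
    obtain ⟨N, hN⟩ := hbd 1 h
    have e := ofList_take_succ rs 0 h
    rw [e] at hN
    exact (succ_step a _ _ (regular_quot rs hreg 0 h) N hN h0).1
  | succ i ih =>
    intro hi
    have hi' : i < rs.length := hi
    obtain ⟨hk, -⟩ := ih hi'.le
    obtain ⟨N, hN⟩ := hbd (i + 1) hi
    have e := ofList_take_succ rs i hi'
    have hN' := hN
    rw [e] at hN'
    have hk1 : LinearMap.ker (AdicCompletion.map (Ideal.span {a})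
        (Ideal.ofList (rs.take (i + 1))).mkQ) =
        (Ideal.ofList (rs.take (i + 1))).map
          (algebraMap A (AdicCompletion (Ideal.span {a}) A)) := by
      rw [e]
      exact (succ_step a _ _ (regular_quot rs hreg i hi') N hN' hk).2
    refine ⟨hk1, fun h => ?_⟩
    obtain ⟨N2, hN2⟩ := hbd (i + 2) h
    have e2 := ofList_take_succ rs (i + 1) h
    rw [e2] at hN2
    exact (succ_step a _ _ (regular_quot rs hreg (i + 1) h) N2 hN2 hk1).1

end Groth.Agent.H71.Compl
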