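import Groth.Agent.H71.Compl.Ker

set_option autoImplicit false
set_option linter.unusedSectionVars false

namespace Groth.Agent.H71.Compl

universe u

open LinearMap AdicCompletion RingTheory.Sequence

variable {A : Type u} [CommRing A] (a : A)

/-- S14275 -/
theorem adicCompletion_weaklyRegular (rs : List A) (hreg : IsWeaklyRegular A rs)
    (hbd : ∀ i ≤ rs.length, ∃ N : ℕ, ∀ x : A ⧸ Ideal.ofList (rs.take i),
      (∃ m : ℕ, a ^ m • x = 0) → a ^ N • x = 0) :
    IsWeaklyRegular (AdicCompletion (Ideal.span {a}) A)
        (rs.map (algebraMap A (AdicCompletion (Ideal.span {a}) A))) ∧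
      Function.Surjective (AdicCompletion.map (Ideal.span {a}) (Ideal.ofList rs).mkQ) ∧
      LinearMap.ker (AdicCompletion.map (Ideal.span {a}) (Ideal.ofList rs).mkQ) =
        (Ideal.ofList rs).map (algebraMap A (AdicCompletion (Ideal.span {a}) A)) := by
  have key := ker_and_regular a rs hreg hbd
  refine ⟨⟨fun i hi => ?_⟩, AdicCompletion.map_surjective _ (Submodule.mkQ_surjective _), ?_⟩
  · have hi' : i < rs.length := by simpa using hi
    obtain ⟨hk, hr⟩ := key i hi'.le
    have hr := hr hi'
    have hK : (Ideal.ofList ((rs.map (algebraMap A (AdicCompletion (Ideal.span {a}) A))).take i) •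
        ⊤ : Submodule (AdicCompletion (Ideal.span {a}) A) (AdicCompletion (Ideal.span {a}) A)) =
        (Ideal.ofList (rs.take i)).map (algebraMap A (AdicCompletion (Ideal.span {a}) A)) := by
      rw [← List.map_take, Ideal.map_ofList, smul_eq_mul, Ideal.mul_top]
    rw [List.getElem_map]
    intro x y hxy
    obtain ⟨x, rfl⟩ := Submodule.mkQ_surjective _ x
    obtain ⟨y, rfl⟩ := Submodule.mkQ_surjective _ y
    have hxy' : algebraMap A (AdicCompletion (Ideal.span {a}) A) rs[i] • x -
        algebraMap A (AdicCompletion (Ideal.span {a}) A) rs[i] • y ∈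
        (Ideal.ofList ((rs.map (algebraMap A (AdicCompletion (Ideal.span {a}) A))).take i) •
        ⊤ : Submodule (AdicCompletion (Ideal.span {a}) A) (AdicCompletion (Ideal.span {a}) A)) :=
      (Submodule.Quotient.eq _).1 hxy
    have hk' : ∀ z : AdicCompletion (Ideal.span {a}) A,
        z ∈ (Ideal.ofList (rs.take i)).map (algebraMap A (AdicCompletion (Ideal.span {a}) A)) ↔
          AdicCompletion.map (Ideal.span {a}) (Ideal.ofList (rs.take i)).mkQ z = 0 := by
      intro z
      rw [← hk]
      exact LinearMap.mem_ker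
    rw [Submodule.mkQ_apply, Submodule.mkQ_apply, Submodule.Quotient.eq]
    rw [hK, hk'] at hxy' ⊢
    apply hr
    change rs[i] • _ = rs[i] • _
    rw [smul_zero, ← hxy', ← smul_sub, algebraMap_smul, LinearMap.map_smul_of_tower]
  · have := (key rs.length le_rfl).1
    rwa [List.take_length] at this

end Groth.Agent.H71.Compl
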