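import Groth.Agent.H71.Compl.Exact

set_option autoImplicit false
set_option linter.unusedSectionVars false

namespace Groth.Agent.H71.Compl

universe u v w

open LinearMap AdicCompletion

variable {A : Type u} [CommRing A] (a : A)
variable {M : Type v} [AddCommGroup M] [Module A M]
variable {P : Type w} [AddCommGroup P] [Module A P]

lemma mem_span_pow_smul_top_iff (n : ℕ) (x : M) :
    x ∈ ((Ideal.span {a}) ^ n • ⊤ : Submodule A M) ↔ ∃ y : M, a ^ n • y = x := by
  rw [Ideal.span_singleton_pow, Submodule.ideal_span_singleton_smul,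
    Submodule.mem_smul_pointwise_iff_exists]
  simp

/-- the Artin–Rees type estimate from bounded torsion of the cokernel -/
lemma AR_of_bddTors (r : A) (hr : IsSMulRegular M r) (g : M →ₗ[A] P)
    (hex : Function.Exact (LinearMap.lsmul A M r) g) (N : ℕ)
    (hN : ∀ x : P, (∃ m : ℕ, a ^ m • x = 0) → a ^ N • x = 0) (n : ℕ) (y : M)
    (hy : LinearMap.lsmul A M r y ∈ ((Ideal.span {a}) ^ (n + N) • ⊤ : Submodule A M)) :
    y ∈ ((Ideal.span {a}) ^ n • ⊤ : Submodule A M) := by
  rw [mem_span_pow_smul_top_iff] at hy ⊢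
  obtain ⟨m', hm'⟩ := hy
  have h1 : a ^ (n + N) • g m' = 0 := by
    rw [← map_smul, hm']
    exact hex.apply_apply_eq_zero y
  have h2 : a ^ N • g m' = 0 := hN _ ⟨_, h1⟩
  rw [← map_smul] at h2
  obtain ⟨m'', hm''⟩ := (hex _).1 h2
  refine ⟨m'', hr ?_⟩
  change r • (a ^ n • m'') = r • y
  have e1 : r • y = a ^ (n + N) • m' := hm'.symm
  have e2 : r • m'' = a ^ N • m' := hm''
  rw [smul_comm, e2, e1, pow_add, mul_smul]

lemma map_lsmul (I : Ideal A) (r : A) (x : AdicCompletion I M) :
    AdicCompletion.map I (LinearMap.lsmul A M r) x = r • x := by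
  induction x using AdicCompletion.induction_on with
  | h f =>
    rw [AdicCompletion.map_mk, ← map_smul]
    congr 1

/-- the step lemma -/
theorem step (r : A) (hr : IsSMulRegular M r) (g : M →ₗ[A] P) (hg : Function.Surjective g)
    (hex : Function.Exact (LinearMap.lsmul A M r) g) (N : ℕ)
    (hN : ∀ x : P, (∃ m : ℕ, a ^ m • x = 0) → a ^ N • x = 0) :
    IsSMulRegular (AdicCompletion (Ideal.span {a}) M) r ∧
      ∀ y : AdicCompletion (Ideal.span {a}) M,
        AdicCompletion.map (Ideal.span {a}) g y = 0 ↔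
          ∃ z : AdicCompletion (Ideal.span {a}) M, r • z = y := by
  have hAR := AR_of_bddTors a r hr g hex N hN
  have h1 := map_injective_of_AR (Ideal.span {a}) N hAR
  have h2 := map_exact_of_AR (Ideal.span {a}) hex hg N hAR
  constructor
  · intro x y hxy
    apply h1
    rw [map_lsmul, map_lsmul]
    exact hxy
  · intro y
    rw [h2 y]
    constructor
    · rintro ⟨z, hz⟩
      exact ⟨z, by rw [← hz, map_lsmul]⟩
    · rintro ⟨z, hz⟩
      exact ⟨z, by rw [← hz, map_lsmul]⟩

end Groth.Agent.H71.Compl
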