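import Groth.Agent.H71.Compl.Step

set_option autoImplicit false
set_option linter.unusedSectionVars false

namespace Groth.Agent.H71.Compl

universe u

open LinearMap AdicCompletion

variable {A : Type u} [CommRing A] (a : A)

/-- `J.map alg ≤ ker (map mkQ)` -/
lemma map_le_ker (J : Ideal A) :
    J.map (algebraMap A (AdicCompletion (Ideal.span {a}) A)) ≤
      LinearMap.ker (AdicCompletion.map (Ideal.span {a}) J.mkQ) := by
  rw [Ideal.map_le_iff_le_comap]
  intro j hj
  change AdicCompletion.map (Ideal.span {a}) J.mkQ (algebraMap A _ j) = 0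
  rw [AdicCompletion.algebraMap_apply, Algebra.algebraMap_self,
    RingHom.id_apply, AdicCompletion.map_of, Submodule.mkQ_apply,
    (Submodule.Quotient.mk_eq_zero J).2 hj, _root_.map_zero]

lemma exact_lsmul_factor (J : Ideal A) (r : A) :
    Function.Exact (LinearMap.lsmul A (A ⧸ J) r)
      (Submodule.factor (le_sup_left : J ≤ J ⊔ Ideal.span {r})) := by
  intro x
  obtain ⟨x, rfl⟩ := Submodule.mkQ_surjective J x
  rw [Submodule.factor_mk, Submodule.mkQ_apply, Submodule.Quotient.mk_eq_zero]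
  constructor
  · intro hx
    obtain ⟨j, hj, s, hs, rfl⟩ := Submodule.mem_sup.1 hx
    obtain ⟨c, rfl⟩ := Ideal.mem_span_singleton'.1 hs
    refine ⟨Submodule.mkQ J c, ?_⟩
    rw [LinearMap.lsmul_apply, ← map_smul, Submodule.mkQ_apply, Submodule.mkQ_apply,
      Submodule.Quotient.eq]
    simpa [mul_comm] using J.neg_mem hj
  · rintro ⟨c, hc⟩
    obtain ⟨c, rfl⟩ := Submodule.mkQ_surjective J c
    rw [LinearMap.lsmul_apply, ← map_smul, Submodule.mkQ_apply, Submodule.mkQ_apply,
      Submodule.Quotient.eq] at hc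
    have : x = r • c - (r • c - x) := by abel
    rw [this]
    refine Submodule.sub_mem _ (Submodule.mem_sup_right ?_) (Submodule.mem_sup_left hc)
    exact Ideal.mem_span_singleton'.2 ⟨c, by simp [mul_comm]⟩

theorem succ_step (J : Ideal A) (r : A) (hr : IsSMulRegular (A ⧸ J) r) (N : ℕ)
    (hN : ∀ x : A ⧸ (J ⊔ Ideal.span {r}), (∃ m : ℕ, a ^ m • x = 0) → a ^ N • x = 0)
    (hker : LinearMap.ker (AdicCompletion.map (Ideal.span {a}) J.mkQ) =
      J.map (algebraMap A (AdicCompletion (Ideal.span {a}) A))) :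
    IsSMulRegular (AdicCompletion (Ideal.span {a}) (A ⧸ J)) r ∧
      LinearMap.ker (AdicCompletion.map (Ideal.span {a}) (J ⊔ Ideal.span {r}).mkQ) =
        (J ⊔ Ideal.span {r}).map (algebraMap A (AdicCompletion (Ideal.span {a}) A)) := by
  obtain ⟨h1, h2⟩ := step a r hr (Submodule.factor (le_sup_left : J ≤ J ⊔ Ideal.span {r}))
    (Submodule.factor_surjective _) (exact_lsmul_factor J r) N hN
  refine ⟨h1, le_antisymm ?_ (map_le_ker a _)⟩
  intro x hx
  rw [LinearMap.mem_ker, ← Submodule.factor_comp_mk (le_sup_left : J ≤ J ⊔ Ideal.span {r}),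
    ← AdicCompletion.map_comp_apply, h2] at hx
  obtain ⟨z, hz⟩ := hx
  obtain ⟨x', rfl⟩ := AdicCompletion.map_surjective (Ideal.span {a}) (Submodule.mkQ_surjective J) z
  have hmem : x - r • x' ∈ LinearMap.ker (AdicCompletion.map (Ideal.span {a}) J.mkQ) := by
    rw [LinearMap.mem_ker, map_sub, ← hz, sub_eq_zero]
    exact (LinearMap.map_smul_of_tower _ r x').symm
  rw [hker] at hmem
  have hx : x = (x - r • x') + r • x' := by abel
  rw [hx, Ideal.map_sup]
  refine Submodule.add_mem _ (Submodule.mem_sup_left hmem) (Submodule.mem_sup_right ?_)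
  rw [Ideal.map_span, Set.image_singleton, Ideal.mem_span_singleton']
  exact ⟨x', by rw [mul_comm, Algebra.smul_def]⟩

end Groth.Agent.H71.Compl
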